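import Groth.Agent.UnipMu.HeightOne
import Groth.Agent.UnipMu.Frob
import Groth.Agent.ComodLib.Rosenlicht
import Groth.Agent.S5422
import Groth.Agent.S5423
import Groth.Agent.S7951
import Mathlib.RingTheory.IntegralClosure.IsIntegralClosure.Basic
import Mathlib.RingTheory.Bialgebra.TensorProduct
import Mathlib.LinearAlgebra.TensorProduct.RightExactness
import Mathlib.RingTheory.Filtration

/-!
# Unipotence and subgroups `μ_p`
-/

universe u

open TensorProduct WithConv

namespace Groth.Agent.UnipMu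

open Groth.Agent.ComodLib

variable {k : Type u} [Field k]

theorem span_monoidAlgebra (G : Type*) [CommGroup G] :
    Submodule.span k {g : MonoidAlgebra k G | IsGroupLikeElem k g} = ⊤ := by
  refine eq_top_iff.mpr fun x _ => ?_
  induction x using MonoidAlgebra.induction_linear with
  | zero => exact Submodule.zero_mem _
  | add a b ha hb => exact Submodule.add_mem _ (ha trivial) (hb trivial)
  | single m r =>
    rw [show MonoidAlgebra.single m r = r • MonoidAlgebra.single m (1 : k) by
      rw [MonoidAlgebra.smul_single, smul_eq_mul, mul_one]]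
    exact Submodule.smul_mem _ _ (Submodule.subset_span (MonoidAlgebra.isGroupLikeElem_single_one m))

variable {A : Type u} [CommRing A] [HopfAlgebra k A]

/-- A unipotent group contains no `μ_n`, `n ≠ 1`. -/
theorem not_surjective_of_isUnipotent (hU : HopfRep.IsUnipotent k A) (n : ℕ) (hn : n ≠ 1)
    (φ : A →ₐc[k] MonoidAlgebra k (Multiplicative (ZMod n))) : ¬ Function.Surjective φ := by
  intro hφ
  have hT := UnipCrit.isUnipotent_of_surjective φ hφ hU
  have h1 := groupLike_eq_one hT
    (MonoidAlgebra.isGroupLikeElem_single_one (A := k) (R := k) (Multiplicative.ofAdd (1 : ZMod n)))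
  rw [MonoidAlgebra.one_def] at h1
  have h2 := congrArg Multiplicative.toAdd (MonoidAlgebra.single_left_inj (one_ne_zero (α := k)) |>.mp h1)
  simp only [toAdd_ofAdd, toAdd_one] at h2
  haveI : Fact (1 = 1) := ⟨rfl⟩
  exact hn ((ZMod.one_eq_zero_iff).mp h2)

theorem finite_of_nilpotent_aug [Algebra.FiniteType k A]
    (h : ∀ x : A, Coalgebra.counit (R := k) x = 0 → IsNilpotent x) : Module.Finite k A := by
  haveI : Algebra.IsIntegral k A := ⟨fun a => by
    have h0 := h (a - algebraMap k A (Coalgebra.counit (R := k) a)) (by simp)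
    obtain ⟨n, hn⟩ := h0
    have : IsIntegral k (a - algebraMap k A (Coalgebra.counit (R := k) a)) :=
      ⟨Polynomial.X ^ n, Polynomial.monic_X_pow n, by simp [hn]⟩
    simpa using this.add (isIntegral_algebraMap (x := Coalgebra.counit (R := k) a))⟩
  exact Algebra.IsIntegral.finite

/-- A reduced group over an algebraically closed field without `μ_ℓ` is unipotent. -/
theorem isUnipotent_of_forall_prime_reduced [IsAlgClosed k] [Algebra.FiniteType k A] [_root_.IsReduced A]
    (hA : ∀ n : ℕ, n.Prime → ¬ ∃ φ : A →ₐc[k] MonoidAlgebra k (Multiplicative (ZMod n)), Function.Surjective φ) :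
    HopfRep.IsUnipotent k A := by
  refine (Groth.Agent.S5423.result k A).mpr fun g V _ _ _ _ => ?_
  by_contra hg
  obtain ⟨l, φ, hl, hφ⟩ := exists_mu_of_point g V hg
  exact hA l hl ⟨φ, hφ⟩

variable (p : ℕ) [Fact p.Prime] [CharP k p]

variable (k A) in
/-- The ideal of the kernel of the `r`-th Frobenius. -/
def frobIdeal (r : ℕ) : Ideal A :=
  Ideal.span ((fun x : A => x ^ p ^ r) '' {x | Coalgebra.counit (R := k) x = 0})

theorem mk_pow (r : ℕ) (a : A) : Ideal.Quotient.mk (frobIdeal k A p r) (a ^ p ^ r) =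
    Ideal.Quotient.mk (frobIdeal k A p r) (algebraMap k A (Coalgebra.counit (R := k) a ^ p ^ r)) := by
  haveI : Nontrivial A := (Bialgebra.counitAlgHom k A).toRingHom.domain_nontrivial
  haveI : CharP A p := charP_of_injective_algebraMap (algebraMap k A).injective p
  rw [Ideal.Quotient.eq, map_pow, ← sub_pow_char_pow]
  exact Ideal.subset_span ⟨_, by simp, rfl⟩

theorem isHopfIdeal_frobIdeal (r : ℕ) : (frobIdeal k A p r).IsHopfIdeal k := by
  haveI : Nontrivial A := (Bialgebra.counitAlgHom k A).toRingHom.domain_nontrivial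
  have hp0 : p ^ r ≠ 0 := pow_ne_zero _ (Fact.out : p.Prime).ne_zero
  set J := frobIdeal k A p r with hJ
  let q : A →ₐ[k] A ⧸ J := Ideal.Quotient.mkₐ k J
  have hcounit : J ≤ RingHom.ker (Bialgebra.counitAlgHom k A) := by
    rw [hJ, frobIdeal, Ideal.span_le]
    rintro _ ⟨x, hx, rfl⟩
    show Bialgebra.counitAlgHom k A (x ^ p ^ r) = 0
    rw [map_pow, show Bialgebra.counitAlgHom k A x = 0 from hx, zero_pow hp0]
  haveI : Nontrivial (A ⧸ J) := (Ideal.Quotient.liftₐ J (Bialgebra.counitAlgHom k A) hcounit).toRingHom.domain_nontrivial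
  let ε₂ : (A ⧸ J) ⊗[k] (A ⧸ J) →ₐ[k] k := Algebra.TensorProduct.lift
    (Ideal.Quotient.liftₐ J (Bialgebra.counitAlgHom k A) hcounit)
    (Ideal.Quotient.liftₐ J (Bialgebra.counitAlgHom k A) hcounit) fun _ _ => Commute.all _ _
  haveI : Nontrivial ((A ⧸ J) ⊗[k] (A ⧸ J)) := ε₂.toRingHom.domain_nontrivial
  haveI : CharP ((A ⧸ J) ⊗[k] (A ⧸ J)) p :=
    charP_of_injective_algebraMap (algebraMap k ((A ⧸ J) ⊗[k] (A ⧸ J))).injective p
  have hw : ∀ w : (A ⧸ J) ⊗[k] (A ⧸ J), w ^ p ^ r = algebraMap k _ (ε₂ w ^ p ^ r) := by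
    intro w
    induction w using TensorProduct.induction_on with
    | zero => simp [zero_pow hp0]
    | add a b ha hb => rw [add_pow_char_pow, ha, hb, map_add, add_pow_char_pow, map_add]
    | tmul a b =>
      obtain ⟨a, rfl⟩ := Ideal.Quotient.mk_surjective a
      obtain ⟨b, rfl⟩ := Ideal.Quotient.mk_surjective b
      rw [Algebra.TensorProduct.tmul_pow, ← map_pow, ← map_pow, mk_pow p r a, mk_pow p r b]
      simp only [ε₂, Algebra.TensorProduct.lift_tmul, mul_pow, map_mul]
      show (algebraMap k (A ⧸ J) _) ⊗ₜ[k] (algebraMap k (A ⧸ J) _) =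
        algebraMap k _ (Bialgebra.counitAlgHom k A a ^ p ^ r) * algebraMap k _ (Bialgebra.counitAlgHom k A b ^ p ^ r)
      simp [Algebra.algebraMap_eq_smul_one, TensorProduct.smul_tmul, TensorProduct.tmul_smul, smul_smul, mul_comm,
        Algebra.TensorProduct.one_def]
  have hcomul : J ≤ RingHom.ker ((Algebra.TensorProduct.map q q).comp (Bialgebra.comulAlgHom k A)) := by
    refine Ideal.span_le.mpr ?_
    rintro _ ⟨x, hx, rfl⟩
    show (Algebra.TensorProduct.map q q).comp (Bialgebra.comulAlgHom k A) (x ^ p ^ r) = 0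
    rw [map_pow, hw]
    have h1 : ε₂ (Algebra.TensorProduct.map q q (Coalgebra.comul (R := k) x)) =
        Coalgebra.counit (R := k) (TensorProduct.lid k A (LinearMap.rTensor A (Coalgebra.counit (R := k)) (Coalgebra.comul (R := k) x))) := by
      induction Coalgebra.comul (R := k) x using TensorProduct.induction_on with
      | zero => simp
      | tmul a b => simp [ε₂, q]
      | add a b ha hb => simp only [map_add, ha, hb]
    rw [Coalgebra.rTensor_counit_comul, TensorProduct.lid_tmul, one_smul, show Coalgebra.counit (R := k) x = 0 from hx] at h1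
    show algebraMap k _ (ε₂ (Algebra.TensorProduct.map q q (Coalgebra.comul (R := k) x)) ^ p ^ r) = 0
    rw [h1, zero_pow hp0, map_zero]
  have hanti : J ≤ J.comap (HopfAlgebra.antipodeAlgHom k A) := by
    conv_lhs => rw [hJ, frobIdeal]
    rw [Ideal.span_le]
    rintro _ ⟨x, hx, rfl⟩
    show HopfAlgebra.antipodeAlgHom k A (x ^ p ^ r) ∈ J
    rw [map_pow]
    exact Ideal.subset_span ⟨_, (DFunLike.congr_fun (AlgHom.counitAlgHom_comp_antipodeAlgHom (R := k) (A := A)) x).trans hx, rfl⟩
  exact { counit_eq_zero := fun x hx => hcounit hx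
          map_mkQ_comul_eq_zero := fun x hx => hcomul hx
          antipode_mem := fun x hx => hanti hx }

theorem frobIdeal_succ_le (r : ℕ) : frobIdeal k A p (r + 1) ≤ frobIdeal k A p r := by
  refine Ideal.span_le.mpr ?_
  rintro _ ⟨x, hx, rfl⟩
  refine Ideal.subset_span ⟨x ^ p, ?_, ?_⟩
  · show Bialgebra.counitAlgHom k A (x ^ p) = 0
    rw [map_pow, show Bialgebra.counitAlgHom k A x = 0 from hx, zero_pow (Fact.out : p.Prime).ne_zero]
  · show (x ^ p) ^ p ^ r = x ^ p ^ (r + 1)
    rw [← pow_mul, ← pow_succ']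

section

variable [Algebra.FiniteType k A]

/-- The first Frobenius kernel of a group without `μ_p` is unipotent. -/
theorem isUnipotent_heightOne_of_noMu [IsAlgClosed k] (J : Ideal A) [J.IsHopfIdeal k]
    (hJ : ∀ x, Coalgebra.counit (R := k) x = 0 → x ^ p ∈ J)
    (hA : ¬ ∃ φ : A →ₐc[k] MonoidAlgebra k (Multiplicative (ZMod p)), Function.Surjective φ) :
    HopfRep.IsUnipotent k (A ⧸ J) := by
  haveI : Algebra.FiniteType k (A ⧸ J) :=
    Algebra.FiniteType.of_surjective (Ideal.Quotient.mkₐ k J) Ideal.Quotient.mk_surjective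
  have hh : ∀ x ∈ Cartier0.aug k (A ⧸ J), x ^ p = 0 := by
    intro x hx
    obtain ⟨a, rfl⟩ := Ideal.Quotient.mk_surjective x
    rw [← map_pow, Ideal.Quotient.eq_zero_iff_mem]
    exact hJ a hx
  haveI : Module.Finite k (A ⧸ J) := finite_of_nilpotent_aug fun x hx => ⟨p, hh x hx⟩
  refine isUnipotent_of_nilpotent_deriv p hh fun y hy => ?_
  by_contra hny
  obtain ⟨φ, hφ⟩ := exists_mu_of_deriv p hy hny
  exact hA ⟨φ.comp (Bialgebra.Quotient.mkBialgHom (R := k) J), hφ.comp Ideal.Quotient.mk_surjective⟩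

/-- Unipotence from the absence of `μ_p`, by induction along the Frobenius. `Q` is a property inherited by the
Frobenius quotients. -/
theorem isUnipotent_of_noMu [IsAlgClosed k]
    (Q : ∀ (B : Type u) [CommRing B] [HopfAlgebra k B], Prop)
    (hQ : ∀ (B C : Type u) [CommRing B] [HopfAlgebra k B] [Algebra.FiniteType k B] [CommRing C] [HopfAlgebra k C]
      [Algebra.FiniteType k C] (ψ : C →ₐc[k] B) (_ : Function.Injective ψ)
      (J : Ideal B) (_ : J.IsHopfIdeal k),
      J = Ideal.map ψ (RingHom.ker (Bialgebra.counitAlgHom k C)) → HopfRep.IsUnipotent k (B ⧸ J) →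
      Set.range ψ = Set.range (fun a : B => a ^ p) → Q B → Q C)
    (hbase : ∀ (B : Type u) [CommRing B] [HopfAlgebra k B] [Algebra.FiniteType k B] [_root_.IsReduced B],
      (¬ ∃ φ : B →ₐc[k] MonoidAlgebra k (Multiplicative (ZMod p)), Function.Surjective φ) → Q B →
      HopfRep.IsUnipotent k B)
    (hA : ¬ ∃ φ : A →ₐc[k] MonoidAlgebra k (Multiplicative (ZMod p)), Function.Surjective φ) (hQA : Q A) :
    HopfRep.IsUnipotent k A := by
  haveI : IsNoetherianRing A := Algebra.FiniteType.isNoetherianRing k A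
  obtain ⟨N, hN⟩ := IsNoetherianRing.isNilpotent_nilradical A
  have hNA : ∀ x : A, IsNilpotent x → x ^ p ^ N = 0 := fun x hx => by
    have h := Ideal.pow_mem_pow (mem_nilradical.mpr hx) N
    rw [hN] at h
    exact pow_eq_zero_of_le (Nat.lt_pow_self (Fact.out : p.Prime).one_lt).le h
  suffices key : ∀ (n : ℕ) (B : Type u) [CommRing B] [HopfAlgebra k B] [Algebra.FiniteType k B],
      (¬ ∃ φ : B →ₐc[k] MonoidAlgebra k (Multiplicative (ZMod p)), Function.Surjective φ) → Q B →
      (∀ x : B, IsNilpotent x → x ^ p ^ n = 0) → HopfRep.IsUnipotent k B from key N A hA hQA hNA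
  clear hN hNA hQA hA N
  intro n
  induction n with
  | zero =>
    intro A _ _ _ hA hQA hNA
    haveI : _root_.IsReduced A := ⟨fun x hx => by simpa using hNA x hx⟩
    exact hbase A hA hQA
  | succ n ih =>
    intro A _ _ _ hA hQA hNA
    obtain ⟨C, _, _, _, ψ, hψ, hr⟩ := exists_frobeniusQuotient (k := k) p A 1
    simp only [pow_one] at hr
    set J := Ideal.map ψ (RingHom.ker (Bialgebra.counitAlgHom k C)) with hJdef
    haveI : J.IsHopfIdeal k := MultTypeLib.isHopfIdeal_map_ker ψ
    have hUJ : HopfRep.IsUnipotent k (A ⧸ J) := isUnipotent_heightOne_of_noMu p J (fun x hx => by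
      obtain ⟨c, hc⟩ : x ^ p ∈ Set.range ψ := hr ▸ ⟨x, rfl⟩
      rw [← hc]
      refine Ideal.mem_map_of_mem _ ?_
      show Coalgebra.counit (R := k) c = 0
      rw [← CoalgHomClass.counit_comp_apply ψ c, hc]
      show Bialgebra.counitAlgHom k A (x ^ p) = 0
      rw [map_pow, show Bialgebra.counitAlgHom k A x = 0 from hx, zero_pow (Fact.out : p.Prime).ne_zero]) hA
    have hC : ¬ ∃ φ : C →ₐc[k] MonoidAlgebra k (Multiplicative (ZMod p)), Function.Surjective φ := fun ⟨φ, hφ⟩ =>
      hA (exists_surjective_lift (span_monoidAlgebra _) ψ hψ hUJ φ hφ)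
    have hUC : HopfRep.IsUnipotent k C := by
      refine ih C hC (hQ A C ψ hψ J inferInstance hJdef hUJ hr hQA) fun c hc => hψ ?_
      obtain ⟨a, ha⟩ : ψ c ∈ Set.range (fun a : A => a ^ p) := hr ▸ ⟨c, rfl⟩
      have ha' : IsNilpotent a := by
        obtain ⟨m, hm⟩ := hc.map (ψ : C →ₐ[k] A)
        exact ⟨p * m, by rw [pow_mul]; exact (congrArg (· ^ m) ha).trans hm⟩
      rw [map_pow, map_zero, ← ha]
      show (a ^ p) ^ p ^ n = 0
      rw [← pow_mul, ← pow_succ']
      exact hNA a ha'
    exact (Groth.Agent.S5422.result k A).2.2 C ψ J hψ hJdef hUC hUJ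

/-- A group all whose functions vanishing at the origin are nilpotent is unipotent if it contains no `μ_p`. -/
theorem isUnipotent_of_infinitesimal [IsAlgClosed k]
    (hnil : ∀ x : A, Coalgebra.counit (R := k) x = 0 → IsNilpotent x)
    (hA : ¬ ∃ φ : A →ₐc[k] MonoidAlgebra k (Multiplicative (ZMod p)), Function.Surjective φ) :
    HopfRep.IsUnipotent k A := by
  refine isUnipotent_of_noMu p (fun B _ _ => ∀ x : B, Coalgebra.counit (R := k) x = 0 → IsNilpotent x)
    (fun B C _ _ _ _ _ _ ψ hψ _ _ _ _ _ hB c hc => ?_) (fun B _ _ _ _ _ hB => ?_) hA hnil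
  · obtain ⟨n, hn⟩ := hB (ψ c) (by rw [CoalgHomClass.counit_comp_apply]; exact hc)
    exact ⟨n, hψ (by rw [map_pow, map_zero, hn])⟩
  · intro V _ _ _ _ _
    obtain ⟨v, hv⟩ := exists_ne (0 : V)
    refine (Submodule.ne_bot_iff _).mpr ⟨v, ?_, hv⟩
    have h : ∀ b : B, b = algebraMap k B (Coalgebra.counit (R := k) b) := fun b =>
      sub_eq_zero.mp (hB _ (by simp)).eq_zero
    show HopfRep.Comod.coact (k := k) (A := B) v = v ⊗ₜ[k] 1
    have key : ∀ z : V ⊗[k] B, z = slice (Coalgebra.counit (R := k)) z ⊗ₜ[k] (1 : B) := fun z => by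
      induction z using TensorProduct.induction_on with
      | zero => simp
      | add a b ha hb => rw [map_add, TensorProduct.add_tmul, ← ha, ← hb]
      | tmul a b =>
        rw [slice_tmul, TensorProduct.smul_tmul, ← Algebra.algebraMap_eq_smul_one, ← h b]
    rw [key (HopfRep.Comod.coact (k := k) (A := B) v)]
    exact congrArg (· ⊗ₜ[k] (1 : B)) (actF_counit v)

/-- A connected smooth group without `μ_p` is unipotent. -/
theorem isUnipotent_of_isDomain [IsAlgClosed k] [IsDomain A]
    (hA : ¬ ∃ φ : A →ₐc[k] MonoidAlgebra k (Multiplicative (ZMod p)), Function.Surjective φ) :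
    HopfRep.IsUnipotent k A := by
  classical
  haveI : IsNoetherianRing A := Algebra.FiniteType.isNoetherianRing k A
  intro V _ _ cV _ _
  have hU : ∀ r, letI := isHopfIdeal_frobIdeal (k := k) (A := A) p r
      HopfRep.IsUnipotent k (A ⧸ frobIdeal k A p r) := by
    intro r
    haveI := isHopfIdeal_frobIdeal (k := k) (A := A) p r
    haveI : Algebra.FiniteType k (A ⧸ frobIdeal k A p r) :=
      Algebra.FiniteType.of_surjective (Ideal.Quotient.mkₐ k _) Ideal.Quotient.mk_surjective
    refine isUnipotent_of_infinitesimal p (fun x hx => ?_) fun ⟨φ, hφ⟩ =>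
      hA ⟨φ.comp (Bialgebra.Quotient.mkBialgHom (R := k) _), hφ.comp Ideal.Quotient.mk_surjective⟩
    obtain ⟨a, rfl⟩ := Ideal.Quotient.mk_surjective x
    exact ⟨p ^ r, by rw [← map_pow, Ideal.Quotient.eq_zero_iff_mem]; exact Ideal.subset_span ⟨a, hx, rfl⟩⟩
  let F : ℕ → Submodule k V := fun r =>
    { carrier := {v | ∀ f : V →ₗ[k] k, coefFun (C := A) f v - algebraMap k A (f v) ∈ frobIdeal k A p r}
      add_mem' := fun {a b} ha hb f => by
        simpa [map_add, add_sub_add_comm] using add_mem (ha f) (hb f)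
      zero_mem' := fun f => by simp
      smul_mem' := fun c x hx f => by
        rw [map_smul, map_smul, smul_eq_mul, map_mul, ← Algebra.smul_def, ← smul_sub]
        exact Submodule.smul_of_tower_mem _ c (hx f) }
  have hF : Antitone F := antitone_nat_of_succ_le fun r v hv f => frobIdeal_succ_le p r (hv f)
  obtain ⟨s, hs⟩ := WellFoundedGT.monotone_chain_condition (α := (Submodule k V)ᵒᵈ) ⟨F, hF⟩
  haveI := isHopfIdeal_frobIdeal (k := k) (A := A) p s
  letI cs : HopfRep.Comod k (A ⧸ frobIdeal k A p s) V :=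
    pushComod (Bialgebra.Quotient.mkBialgHom (R := k) (frobIdeal k A p s) : A →ₗc[k] A ⧸ frobIdeal k A p s) cV
  obtain ⟨v, hv, hv0⟩ := (Submodule.ne_bot_iff _).mp (hU s V inferInstance inferInstance)
  refine (Submodule.ne_bot_iff _).mpr ⟨v, ?_, hv0⟩
  have hvs : v ∈ F s := by
    intro f
    refine (Ideal.Quotient.eq (I := frobIdeal k A p s)).mp ?_
    have e : ∀ z : V ⊗[k] A, Ideal.Quotient.mk (frobIdeal k A p s) (TensorProduct.lid k A (f.rTensor A z)) =
        TensorProduct.lid k _ (f.rTensor _ (LinearMap.lTensor V (Ideal.Quotient.mkₐ k (frobIdeal k A p s)).toLinearMap z)) := by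
      intro z
      induction z using TensorProduct.induction_on with
      | zero => simp
      | tmul a b => simp [Algebra.smul_def]
      | add a b ha hb => simp only [map_add, ha, hb]
    rw [coefFun_apply, e]
    rw [show LinearMap.lTensor V (Ideal.Quotient.mkₐ k (frobIdeal k A p s)).toLinearMap (cV.coact v) = v ⊗ₜ[k] 1 from hv]
    rw [LinearMap.rTensor_tmul, TensorProduct.lid_tmul, ← Algebra.algebraMap_eq_smul_one]
    rfl
  have hzero : ∀ f : V →ₗ[k] k, coefFun (C := A) f v = algebraMap k A (f v) := by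
    intro f
    rw [← sub_eq_zero, ← Ideal.mem_bot, ← Ideal.iInf_pow_eq_bot_of_isDomain
      (I := RingHom.ker (Bialgebra.counitAlgHom k A)) (RingHom.ker_ne_top _), Submodule.mem_iInf]
    intro i
    have hi : v ∈ F (max s i) := by
      have h := hs (max s i) (le_max_left _ _)
      exact (show F s = F (max s i) from h) ▸ hvs
    have hle : frobIdeal k A p (max s i) ≤ RingHom.ker (Bialgebra.counitAlgHom k A) ^ i := by
      refine Ideal.span_le.mpr ?_
      rintro _ ⟨x, hx, rfl⟩
      exact Ideal.pow_le_pow_right ((le_max_right s i).trans (Nat.lt_pow_self (Fact.out : p.Prime).one_lt).le)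
        (Ideal.pow_mem_pow hx _)
    exact hle (hi f)
  show HopfRep.Comod.coact (k := k) (A := A) v = v ⊗ₜ[k] 1
  let b := Module.Free.chooseBasis k V
  apply (TensorProduct.equivFinsuppOfBasisLeft b).injective
  ext i
  rw [TensorProduct.equivFinsuppOfBasisLeft_apply, TensorProduct.equivFinsuppOfBasisLeft_apply]
  show coefFun (C := A) (b.coord i) v = _
  rw [hzero]
  simp [Algebra.algebraMap_eq_smul_one]

/-- A connected group over an algebraically closed field without `μ_p` is unipotent. -/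
theorem isUnipotent_of_connected [IsAlgClosed k] (hconn : ∀ e : A, IsIdempotentElem e → e = 0 ∨ e = 1)
    (hA : ¬ ∃ φ : A →ₐc[k] MonoidAlgebra k (Multiplicative (ZMod p)), Function.Surjective φ) :
    HopfRep.IsUnipotent k A := by
  refine isUnipotent_of_noMu p (fun B _ _ => ∀ e : B, IsIdempotentElem e → e = 0 ∨ e = 1)
    (fun B C _ _ _ _ _ _ ψ hψ _ _ _ _ _ hB e he => ?_) (fun B _ _ _ _ hB hc => ?_) hA hconn
  · rcases hB (ψ e) (he.map ψ) with h | h
    · exact Or.inl (hψ (h.trans (map_zero ψ).symm))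
    · exact Or.inr (hψ (h.trans (map_one ψ).symm))
  · haveI : IsDomain B := isDomain_of_connected (k := k) hc
    exact isUnipotent_of_isDomain p hB

/-- A group over an algebraically closed field without `μ_ℓ` for all primes `ℓ` is unipotent. -/
theorem isUnipotent_of_forall_prime (p : ℕ) [Fact p.Prime] [CharP k p] [IsAlgClosed k]
    (hA : ∀ n : ℕ, n.Prime → ¬ ∃ φ : A →ₐc[k] MonoidAlgebra k (Multiplicative (ZMod n)), Function.Surjective φ) :
    HopfRep.IsUnipotent k A := by
  refine isUnipotent_of_noMu p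
    (fun B _ _ => ∀ n : ℕ, n.Prime → ¬ ∃ φ : B →ₐc[k] MonoidAlgebra k (Multiplicative (ZMod n)), Function.Surjective φ)
    (fun B C _ _ _ _ _ _ ψ hψ J _ hJ hU _ hB n hn ⟨φ, hφ⟩ => ?_) (fun B _ _ _ _ _ hB => ?_) (hA p Fact.out) hA
  · subst hJ
    exact hB n hn (exists_surjective_lift (span_monoidAlgebra _) ψ hψ hU φ hφ)
  · exact isUnipotent_of_forall_prime_reduced hB

end

end Groth.Agent.UnipMu
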