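import Groth.Agent.UnipExt.Main
import Groth.Agent.UnipExt.Trigonal
import Groth.Agent.UnipExt.EtaleKer
import Groth.Agent.UnipConst.Basic
import Groth.Agent.UnipComp.Max
import Groth.Agent.ComodLib.PrimCriteria
import Groth.Agent.ComodLib.Trig
import Groth.Agent.S7974
import Mathlib.GroupTheory.FiniteAbelian.Basic
import Mathlib.RingTheory.FiniteType

/-!
# A non-unipotent point gives a subgroup `μ_ℓ`
-/

universe u

open TensorProduct WithConv

namespace Groth.Agent.UnipMu

open Groth.Agent.ComodLib

variable {k : Type u} [Field k]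

/-- A nontrivial finitely generated abelian group maps onto some `ℤ/ℓ`, `ℓ` prime. -/
theorem exists_surj_zmod (M : Type u) [CommGroup M] [hM : Group.FG M] [Nontrivial M] :
    ∃ (l : ℕ) (f : M →* Multiplicative (ZMod l)), l.Prime ∧ Function.Surjective f := by
  classical
  suffices h : ∃ (l : ℕ) (f : Additive M →+ ZMod l), l.Prime ∧ Function.Surjective f by
    obtain ⟨l, f, hl, hf⟩ := h
    exact ⟨l, AddMonoidHom.toMultiplicativeRight f, hl, hf⟩
  obtain ⟨n, ι, fι, p, hp, e, ⟨F⟩⟩ := AddCommGroup.equiv_free_prod_directSum_zmod (Additive M)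
  by_cases hn : n = 0
  · subst hn
    by_cases he : ∃ i, e i ≠ 0
    · obtain ⟨i, hi⟩ := he
      let g : ZMod (p i ^ e i) →+* ZMod (p i) := ZMod.castHom (dvd_pow_self _ hi) _
      refine ⟨p i, (g.toAddMonoidHom.comp (DFinsupp.evalAddMonoidHom i)).comp
        ((AddMonoidHom.snd _ _).comp F.toAddMonoidHom), hp i, ?_⟩
      intro y
      obtain ⟨x, rfl⟩ := ZMod.ringHom_surjective g y
      refine ⟨F.symm (0, DirectSum.of _ i x), ?_⟩
      simp
      exact congrArg g (DirectSum.of_eq_same (β := fun i => ZMod (p i ^ e i)) i x)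
    · push Not at he
      exfalso
      haveI : ∀ i, Subsingleton (ZMod (p i ^ e i)) := fun i => by
        rw [he i, pow_zero]; infer_instance
      exact not_subsingleton (Additive M) F.toEquiv.subsingleton
  · let i0 : Fin n := ⟨0, Nat.pos_of_ne_zero hn⟩
    refine ⟨2, ((Int.castAddHom (ZMod 2)).comp (Finsupp.applyAddHom i0)).comp
      ((AddMonoidHom.fst _ _).comp F.toAddMonoidHom), Nat.prime_two, ?_⟩
    intro y
    obtain ⟨z, rfl⟩ := ZMod.intCast_surjective y
    exact ⟨F.symm (Finsupp.single i0 z, 0), by simp⟩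

/-- Families of functionals which separate a space separate its tensor square. -/
theorem tensor_sep {B : Type u} [AddCommGroup B] [Module k B] {ι : Type*} (ev : ι → B →ₗ[k] k)
    (hsep : ∀ b : B, (∀ i, ev i b = 0) → b = 0) {z : B ⊗[k] B}
    (hz : ∀ i j, LinearMap.mul' k k (TensorProduct.map (ev i) (ev j) z) = 0) : z = 0 := by
  classical
  let b := Module.Free.chooseBasis k B
  apply (TensorProduct.equivFinsuppOfBasisRight b).injective
  ext l
  rw [TensorProduct.equivFinsuppOfBasisRight_apply, map_zero, Finsupp.zero_apply]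
  refine hsep _ fun i => ?_
  let w : B := TensorProduct.lid k B ((ev i).rTensor B z)
  have hw : w = 0 := hsep _ fun j => by
    refine Eq.trans ?_ (hz i j)
    simp only [w]
    clear hz w
    induction z using TensorProduct.induction_on with
    | zero => simp
    | tmul p q => simp
    | add p q hp hq => simp only [map_add, hp, hq]
  have e1 : ev i (TensorProduct.rid k B ((b.coord l).lTensor B z)) = b.coord l w := by
    simp only [w]
    clear hw w hz
    induction z using TensorProduct.induction_on with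
    | zero => simp
    | tmul p q => simp [mul_comm]
    | add p q hp hq => simp only [map_add, hp, hq]
  rw [e1, hw, map_zero]

/-- A group-like element of a unipotent group is trivial. -/
theorem groupLike_eq_one {C : Type u} [CommRing C] [HopfAlgebra k C] (hU : HopfRep.IsUnipotent k C)
    {χ : C} (hχ : IsGroupLikeElem k χ) : χ = 1 := by
  have h1 : ∀ ψ : C →ₗ[k] k, ψ 1 = 0 → ψ χ = 0 := by
    intro ψ hψ
    have hiter : ∀ n : ℕ, ((actF ψ : C →ₗ[k] C) ^ n) χ = (ψ χ) ^ n • χ := fun n => by
      induction n with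
      | zero => simp
      | succ n ih =>
        rw [pow_succ', Module.End.mul_apply, ih, map_smul, pow_succ, mul_smul, actF_apply]
        show _ • slice ψ (Coalgebra.comul (R := k) χ) = _
        rw [hχ.comul_eq_tmul_self, slice_tmul]
    obtain ⟨m, hm⟩ := UnipConst.locallyNilpotent hU ψ hψ χ
    rw [hiter, smul_eq_zero] at hm
    rcases hm with h | h
    · exact pow_eq_zero_iff'.mp h |>.1
    · exact absurd h hχ.ne_zero
  rw [← sub_eq_zero, ← Module.forall_dual_apply_eq_zero_iff k]
  intro φ
  let ψ : C →ₗ[k] k := φ - φ 1 • Coalgebra.counit (R := k)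
  have hψ := h1 ψ (by simp [ψ, Bialgebra.counit_one])
  simp only [ψ, LinearMap.sub_apply, LinearMap.smul_apply, hχ.counit_eq_one, smul_eq_mul, mul_one] at hψ
  rw [map_sub, hψ]

variable {A : Type u} [CommRing A] [HopfAlgebra k A]

/-- A point acting non-unipotently gives a subgroup `μ_ℓ` for some prime `ℓ`. -/
theorem exists_mu_of_point [IsAlgClosed k] [Algebra.FiniteType k A] (g : A →ₐ[k] k)
    (V : Type u) [AddCommGroup V] [Module k V] [cV : HopfRep.Comod k A V] [Module.Finite k V]
    (hg : ¬ IsNilpotent (HopfRep.Comod.act k A V g - 1)) :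
    ∃ (l : ℕ) (φ : A →ₐc[k] MonoidAlgebra k (Multiplicative (ZMod l))), l.Prime ∧ Function.Surjective φ := by
  classical
  let S : Subgroup (WithConv (A →ₐ[k] k)) := Subgroup.zpowers (toConv g)
  let I : Ideal A := ⨅ h ∈ S, RingHom.ker (WithConv.ofConv h : A →ₐ[k] k)
  haveI : I.IsHopfIdeal k := Groth.Agent.S7974.result k A S
  let π : A →ₐc[k] A ⧸ I := Bialgebra.Quotient.mkBialgHom (R := k) I
  haveI : Algebra.FiniteType k (A ⧸ I) :=
    Algebra.FiniteType.of_surjective (Ideal.Quotient.mkₐ k I) Ideal.Quotient.mk_surjective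
  let pt : S → (A ⧸ I) →ₐ[k] k := fun h => Ideal.Quotient.liftₐ I h.1.ofConv fun a ha => by
    simp only [I, Submodule.mem_iInf, RingHom.mem_ker] at ha
    exact ha h.1 h.2
  have hsep : ∀ b : A ⧸ I, (∀ h : S, (pt h).toLinearMap b = 0) → b = 0 := by
    intro b hb
    obtain ⟨a, rfl⟩ := Ideal.Quotient.mk_surjective b
    refine Ideal.Quotient.eq_zero_iff_mem.mpr ?_
    simp only [I, Submodule.mem_iInf, RingHom.mem_ker]
    exact fun h hh => hb ⟨h, hh⟩
  have hpt : ∀ (x y : S) (a : A),
      LinearMap.mul' k k (TensorProduct.map (pt x).toLinearMap (pt y).toLinearMap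
        (TensorProduct.map (Ideal.Quotient.mkₐ k I).toLinearMap (Ideal.Quotient.mkₐ k I).toLinearMap
          (Coalgebra.comul (R := k) a))) = (x.1 * y.1).ofConv a := by
    intro x y a
    rw [AlgHom.convMul_apply]
    induction Coalgebra.comul (R := k) a using TensorProduct.induction_on with
    | zero => simp
    | tmul p q => simp [pt]
    | add p q hp hq => simp only [map_add, hp, hq]
  haveI : Coalgebra.IsCocomm k (A ⧸ I) := ⟨by
    refine LinearMap.ext fun b => ?_
    obtain ⟨a, rfl⟩ := Ideal.Quotient.mk_surjective b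
    rw [← sub_eq_zero]
    refine tensor_sep (fun h : S => (pt h).toLinearMap) hsep fun x y => ?_
    have hc : Coalgebra.comul (R := k) (Ideal.Quotient.mk I a) =
        TensorProduct.map (Ideal.Quotient.mkₐ k I).toLinearMap (Ideal.Quotient.mkₐ k I).toLinearMap
          (Coalgebra.comul (R := k) a) := Bialgebra.Quotient.comul_mk I a
    have hcomm : ∀ z : (A ⧸ I) ⊗[k] (A ⧸ I), LinearMap.mul' k k (TensorProduct.map (pt x).toLinearMap (pt y).toLinearMap
        (TensorProduct.comm k _ _ z)) = LinearMap.mul' k k (TensorProduct.map (pt y).toLinearMap (pt x).toLinearMap z) := by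
      intro z
      induction z using TensorProduct.induction_on with
      | zero => simp
      | tmul p q => simp [mul_comm]
      | add p q hp hq => simp only [map_add, hp, hq]
    have hxy : x.1 * y.1 = y.1 * x.1 := by
      obtain ⟨i, hi⟩ := x.2
      obtain ⟨j, hj⟩ := y.2
      simp only at hi hj
      rw [← hi, ← hj, ← zpow_add, ← zpow_add, add_comm]
    simp only [LinearMap.comp_apply, LinearEquiv.coe_coe, map_sub, hcomm, hc, hpt, hxy, sub_self]⟩
  let gB : (A ⧸ I) →ₐ[k] k := pt ⟨toConv g, Subgroup.mem_zpowers _⟩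
  letI cB : HopfRep.Comod k (A ⧸ I) V := pushComod (π : A →ₗc[k] A ⧸ I) cV
  have hact : HopfRep.Comod.act k (A ⧸ I) V gB = HopfRep.Comod.act k A V g := by
    refine LinearMap.ext fun v => congrArg (TensorProduct.rid k V) ?_
    show LinearMap.lTensor V gB.toLinearMap (LinearMap.lTensor V ((π : A →ₗc[k] A ⧸ I) : A →ₗ[k] A ⧸ I) (cV.coact v)) = _
    rw [← LinearMap.comp_apply, ← LinearMap.lTensor_comp]
    rfl
  have hT : HopfRep.IsTrigonalizable k (A ⧸ I) := PrimDiag.isTrigonalizable_of_isCocomm
  obtain ⟨D, _, _, ψ, J, _, hψ, hD, hJ, hU⟩ := UnipExt.trigonal_iff.mp hT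
  obtain ⟨r, hr⟩ := UnipExt.exists_bialg_retraction hD ψ hψ J hJ hU
  have hrs : Function.Surjective r := fun d => ⟨ψ d, DFunLike.congr_fun hr d⟩
  haveI : Algebra.FiniteType k D := Algebra.FiniteType.of_surjective (r : (A ⧸ I) →ₐ[k] D) hrs
  obtain ⟨M, _, ⟨e⟩⟩ := UnipComp.isDiag_of_span (Q := D) fun x => hD ▸ Submodule.mem_top
  haveI : Algebra.FiniteType k (MonoidAlgebra k M) :=
    Algebra.FiniteType.of_surjective (e : D →ₐ[k] MonoidAlgebra k M) e.surjective
  haveI : Monoid.FG M := (MonoidAlgebra.finiteType_iff_fg (R := k)).mp inferInstance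
  haveI : Group.FG M := Group.fg_iff_monoid_fg.mpr inferInstance
  haveI : Nontrivial M := by
    rw [← not_subsingleton_iff_nontrivial]
    intro hsub
    apply hg
    have hD1 : ∀ d : D, d = algebraMap k D (Coalgebra.counit (R := k) d) := by
      intro d
      obtain ⟨c, hc⟩ : ∃ c : k, d = algebraMap k D c := by
        refine ⟨(e d).coeff 1, e.injective ?_⟩
        refine Eq.trans ?_ ((e : D →ₐ[k] MonoidAlgebra k M).commutes ((e d).coeff 1)).symm
        show e d = _
        ext m
        rw [Subsingleton.elim m 1]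
        simp
      rw [hc, Bialgebra.counit_algebraMap]
    have hJ0 : J = ⊥ := by
      rw [hJ, eq_bot_iff, Ideal.map_le_iff_le_comap]
      intro d hd
      rw [hD1 d, show Coalgebra.counit (R := k) d = 0 from hd]
      simp
    have hUB : HopfRep.IsUnipotent k (A ⧸ I) := by
      intro W _ _ cW _ _
      obtain ⟨χ, w, hχ, hw0, hw⟩ := UnipExt.exists_eigen_of_isTrigonalizable hT W
      have hχ1 : Ideal.Quotient.mk J χ = 1 :=
        groupLike_eq_one hU (UnipExt.isGroupLike_map (ψ := Bialgebra.Quotient.mkBialgHom (R := k) J) hχ)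
      rw [← map_one (Ideal.Quotient.mk J), Ideal.Quotient.eq, hJ0, Ideal.mem_bot, sub_eq_zero] at hχ1
      refine (Submodule.ne_bot_iff _).mpr ⟨w, ?_, hw0⟩
      show HopfRep.Comod.coact (k := k) (A := A ⧸ I) w = w ⊗ₜ[k] 1
      rw [hw, hχ1]
    rw [← hact]
    exact isNilpotent_act_sub_one hUB gB V
  obtain ⟨l, f, hl, hf⟩ := exists_surj_zmod M
  refine ⟨l, ((MonoidAlgebra.mapDomainBialgHom (R := k) f).comp ((e : D →ₐc[k] MonoidAlgebra k M).comp r)).comp π,
    hl, ?_⟩
  have hmap : Function.Surjective (MonoidAlgebra.mapDomainBialgHom (R := k) f) := by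
    intro x
    induction x using MonoidAlgebra.induction_linear with
    | zero => exact ⟨0, map_zero _⟩
    | add p q hp hq =>
      obtain ⟨a, rfl⟩ := hp
      obtain ⟨b, rfl⟩ := hq
      exact ⟨a + b, map_add _ a b⟩
    | single m c =>
      obtain ⟨n, rfl⟩ := hf m
      exact ⟨MonoidAlgebra.single n c, by simp⟩
  exact (hmap.comp (e.surjective.comp hrs)).comp
    (Ideal.Quotient.mk_surjective (I := I))

end Groth.Agent.UnipMu
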