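import Groth.Agent.GrpSchLib.HeightOneExists
import Groth.Agent.ComodLib.GradedAug
import Groth.Agent.ComodLib.Coalg
import Groth.Agent.SGA7IILib.QLinear
import Mathlib.Algebra.Lie.Engel
import Mathlib.Algebra.Lie.OfAssociative
import Mathlib.Algebra.MvPolynomial.PDeriv
import Mathlib.LinearAlgebra.Matrix.Adjugate

/-!
# Groups of height one
-/

universe u v

open TensorProduct WithConv MvPolynomial

namespace Groth.Agent.UnipMu

open Groth.Agent.ComodLib Groth.Agent.GrpSchLib

attribute [local instance 100] LieRing.ofAssociativeRing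

variable {k : Type u} [Field k]

/-- An ideal containing the `p`-th powers of the variables and stable under the partial derivatives contains no
nonzero polynomial with exponents below `p`. -/
theorem eq_zero_of_reduced {σ : Type*} (p : ℕ) [CharP k p] (Q : Ideal (MvPolynomial σ k))
    (hQ : Q ≠ ⊤) (hder : ∀ f ∈ Q, ∀ i, pderiv i f ∈ Q) :
    ∀ (n : ℕ) (f : MvPolynomial σ k), (∀ m ∈ f.support, (∀ i, m i < p) ∧ m.degree < n) → f ∈ Q → f = 0 := by
  classical
  intro n
  induction n with
  | zero =>
    intro f hf _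
    rw [← support_eq_empty, Finset.eq_empty_iff_forall_notMem]
    intro m hm
    exact absurd (hf m hm).2 (Nat.not_lt_zero _)
  | succ n ih =>
    intro f hf hfQ
    have hd : ∀ i, pderiv i f = 0 := by
      intro i
      refine ih _ (fun m hm => ?_) (hder f hfQ i)
      rw [mem_support_iff, coeff_pderiv] at hm
      have h := hf _ (mem_support_iff.mpr (left_ne_zero_of_mul hm))
      refine ⟨fun j => lt_of_le_of_lt (by simp) (h.1 j), ?_⟩
      have h2 := h.2
      simp only [map_add, Finsupp.degree_single] at h2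
      omega
    have hC : f = C (coeff 0 f) := by
      ext m
      rw [coeff_C]
      by_cases hm : 0 = m
      · subst hm; simp
      rw [if_neg hm]
      by_contra hne
      obtain ⟨i, hi⟩ : ∃ i, m i ≠ 0 := by
        by_contra h
        push Not at h
        exact hm (Finsupp.ext fun i => (h i).symm)
      have h := congrArg (coeff (m - Finsupp.single i 1)) (hd i)
      rw [coeff_pderiv, coeff_zero,
        tsub_add_cancel_of_le (Finsupp.single_le_iff.mpr (Nat.one_le_iff_ne_zero.mpr hi))] at h
      rcases mul_eq_zero.mp h with h | h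
      · exact hne h
      · simp only [Finsupp.coe_tsub, Pi.sub_apply, Finsupp.single_eq_same] at h
        rw [← Nat.cast_succ, CharP.cast_eq_zero_iff k p] at h
        have h1 := (hf m (mem_support_iff.mpr hne)).1 i
        have h2 := Nat.le_of_dvd (Nat.succ_pos _) h
        omega
    by_contra hne
    have hc : coeff 0 f ≠ 0 := fun h => hne (by rw [hC, h, map_zero])
    exact hQ (Ideal.eq_top_of_isUnit_mem Q (hC ▸ hfQ) ((Ne.isUnit hc).map C))

variable {A : Type u} [CommRing A] [HopfAlgebra k A]

theorem convMul_apply_eq (y z : CartDual.D k A) (a : A) :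
    (y * z).ofConv a = y.ofConv (actF z.ofConv a) := by
  rw [LinearMap.convMul_apply, actF_apply]
  show _ = y.ofConv (slice z.ofConv (Coalgebra.comul (R := k) a))
  induction Coalgebra.comul (R := k) a using TensorProduct.induction_on with
  | zero => simp
  | tmul p q => simp [mul_comm]
  | add p q hp hq => simp only [map_add, hp, hq]

theorem commutator_mem {y z : CartDual.D k A} (hy : y ∈ derivForms k A) (hz : z ∈ derivForms k A) :
    y * z - z * y ∈ derivForms k A := by
  intro a b
  let Y : Cartier0.Tan k A := ⟨y.ofConv, hy⟩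
  let Z : Cartier0.Tan k A := ⟨z.ofConv, hz⟩
  have key : ∀ (Y Z : Cartier0.Tan k A) (c d : A),
      Y.1 (Cartier0.lieOp Z (c * d)) =
        Coalgebra.counit (R := k) c * Y.1 (Cartier0.lieOp Z d) + Coalgebra.counit (R := k) d * Y.1 (Cartier0.lieOp Z c) +
          (Z.1 d * Y.1 c + Z.1 c * Y.1 d) := by
    intro Y Z c d
    rw [Cartier0.lieOp_mul, map_add, Y.2, Y.2, GradedAug.counit_lieOp, GradedAug.counit_lieOp]
    show _ = Bialgebra.counitAlgHom k A c * _ + Bialgebra.counitAlgHom k A d * _ + _
    ring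
  simp only [WithConv.ofConv_sub, LinearMap.sub_apply, convMul_apply_eq]
  show Y.1 (Cartier0.lieOp Z (a * b)) - Z.1 (Cartier0.lieOp Y (a * b)) =
    _ * (Y.1 (Cartier0.lieOp Z b) - Z.1 (Cartier0.lieOp Y b)) + _ * (Y.1 (Cartier0.lieOp Z a) - Z.1 (Cartier0.lieOp Y a))
  rw [key, key]
  ring

variable (p : ℕ) [Fact p.Prime] [CharP k p] [Algebra.FiniteType k A]

/-- A function killed by all invariant derivations of a group of height one is constant. -/
theorem const_of_lieOp_eq_zero (hh : ∀ x ∈ Cartier0.aug k A, x ^ p = 0) {c : A}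
    (hc : ∀ L : Cartier0.Tan k A, Cartier0.lieOp L c = 0) :
    c = algebraMap k A (Coalgebra.counit (R := k) c) := by
  classical
  haveI : Nontrivial A := (Bialgebra.counitAlgHom k A).toRingHom.domain_nontrivial
  haveI : IsNoetherianRing A := Algebra.FiniteType.isNoetherianRing k A
  obtain ⟨d, x, L, hx, hdual, hexp⟩ := GradedAug.exists_dual_coords (k := k) (A := A)
  let π : MvPolynomial (Fin d) k →ₐ[k] A := aeval x
  have hnil : ∀ a ∈ Cartier0.aug k A, IsNilpotent a := fun a ha => ⟨p, hh a ha⟩
  obtain ⟨N, hN⟩ : IsNilpotent (Cartier0.aug k A) :=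
    (Ideal.FG.isNilpotent_iff_le_nilradical (IsNoetherian.noetherian (Cartier0.aug k A))).mpr hnil
  have hgen : ∀ j n, N ≤ n + j → ∀ u ∈ Cartier0.aug k A ^ n, u ∈ π.range := by
    intro j
    induction j with
    | zero =>
      intro n hn u hu
      have h : Cartier0.aug k A ^ n = ⊥ := le_bot_iff.mp ((Ideal.pow_le_pow_right (by omega)).trans hN.le)
      rw [h, Ideal.mem_bot] at hu
      rw [hu]; exact zero_mem _
    | succ j ih =>
      intro n hn u hu
      obtain ⟨f, -, hf⟩ := GradedAug.exists_homogeneous hx hexp n u hu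
      have := ih (n + 1) (by omega) _ hf
      rw [← sub_add_cancel u (aeval x f)]
      exact add_mem this ⟨f, rfl⟩
  obtain ⟨f₀, hf₀⟩ := hgen N 0 (by omega) c (by simp)
  let Q : Ideal (MvPolynomial (Fin d) k) := RingHom.ker π
  let M : Matrix (Fin d) (Fin d) A := fun i l => Cartier0.lieOp (L i) (x l)
  have hM : IsUnit M.det := by
    have h1 : Bialgebra.counitAlgHom k A M.det = 1 := by
      rw [AlgHom.map_det]
      have : (Bialgebra.counitAlgHom k A).mapMatrix M = 1 := by
        ext i l
        simp only [AlgHom.mapMatrix_apply, Matrix.map_apply, M, GradedAug.counit_lieOp, hdual, Matrix.one_apply]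
      rw [this, Matrix.det_one]
    have h2 : IsNilpotent (M.det - 1) := hnil _ (by
      show Bialgebra.counitAlgHom k A (M.det - 1) = 0
      rw [map_sub, h1, map_one, sub_self])
    simpa using h2.isUnit_add_one
  have hker : ∀ f : MvPolynomial (Fin d) k, (∀ i, Cartier0.lieOp (L i) (π f) = 0) → ∀ l, pderiv l f ∈ Q := by
    intro f hf
    let w : Fin d → A := fun l => π (pderiv l f)
    have hw : M.mulVec w = 0 := by
      funext i
      rw [Matrix.mulVec, dotProduct, Pi.zero_apply, ← hf i, GradedAug.lieOp_aeval]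
      exact Finset.sum_congr rfl fun l _ => mul_comm _ _
    have hw0 : w = 0 := Matrix.mulVec_injective_of_isUnit ((Matrix.isUnit_iff_isUnit_det M).mpr hM)
      (hw.trans (Matrix.mulVec_zero M).symm)
    exact fun l => congrFun hw0 l
  have hstab : ∀ f ∈ Q, ∀ l, pderiv l f ∈ Q := fun f hf =>
    hker f fun i => by rw [show π f = 0 from hf, map_zero]
  have hQ : Q ≠ ⊤ := fun h => by
    have h1 : (1 : MvPolynomial (Fin d) k) ∈ Q := h ▸ Submodule.mem_top
    exact one_ne_zero (α := A) (by simpa [Q] using h1)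
  let f : MvPolynomial (Fin d) k :=
    ∑ m ∈ f₀.support.filter (fun m => ∀ i, m i < p), monomial m (coeff m f₀)
  have hfs : ∀ m ∈ f.support, ∀ i, m i < p := by
    intro m hm
    obtain ⟨m', hm', hmm⟩ := Finset.mem_biUnion.mp (support_sum hm)
    rw [Finset.mem_singleton.mp (support_monomial_subset hmm)]
    exact (Finset.mem_filter.mp hm').2
  have hπf : π f = c := by
    have h2 : ∑ m ∈ f₀.support.filter (fun m => ¬ ∀ i, m i < p), π (monomial m (coeff m f₀)) = 0 := by
      refine Finset.sum_eq_zero fun m hm => ?_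
      obtain ⟨i, hi⟩ := not_forall.mp (Finset.mem_filter.mp hm).2
      simp only [π, aeval_monomial]
      refine mul_eq_zero_of_right _ ?_
      rw [Finsupp.prod, Finset.prod_eq_zero (i := i)]
      · exact Finsupp.mem_support_iff.mpr fun h => hi (by rw [h]; exact (Fact.out : p.Prime).pos)
      · exact pow_eq_zero_of_le (not_lt.mp hi) (hh _ (hx i))
    rw [← hf₀]
    show π f = π f₀
    conv_rhs => rw [f₀.as_sum, map_sum, ← Finset.sum_filter_add_sum_filter_not _ (fun m => ∀ i, m i < p), h2, add_zero]
    simp [f]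
  have hd0 : ∀ l, pderiv l f = 0 := by
    intro l
    refine eq_zero_of_reduced p Q hQ hstab (f.support.sup (fun m => m.degree) + 1) _ (fun m hm => ?_)
      (hker f (fun i => by rw [hπf]; exact hc _) l)
    rw [mem_support_iff, coeff_pderiv] at hm
    have hm' := mem_support_iff.mpr (left_ne_zero_of_mul hm)
    have h := hfs _ hm'
    refine ⟨fun j => lt_of_le_of_lt (by simp) (h j), ?_⟩
    have := Finset.le_sup (f := fun m => m.degree) hm'
    simp only [map_add, Finsupp.degree_single] at this
    omega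
  have hfC : f = C (coeff 0 f) := by
    ext m
    rw [coeff_C]
    by_cases hm : 0 = m
    · subst hm; simp
    rw [if_neg hm]
    by_contra hne
    obtain ⟨i, hi⟩ : ∃ i, m i ≠ 0 := by
      by_contra h
      push Not at h
      exact hm (Finsupp.ext fun i => (h i).symm)
    have h := congrArg (coeff (m - Finsupp.single i 1)) (hd0 i)
    rw [coeff_pderiv, coeff_zero,
      tsub_add_cancel_of_le (Finsupp.single_le_iff.mpr (Nat.one_le_iff_ne_zero.mpr hi))] at h
    rcases mul_eq_zero.mp h with h | h
    · exact hne h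
    · simp only [Finsupp.coe_tsub, Pi.sub_apply, Finsupp.single_eq_same] at h
      rw [← Nat.cast_succ, CharP.cast_eq_zero_iff k p] at h
      have h1 := hfs m (mem_support_iff.mpr hne) i
      have h2 := Nat.le_of_dvd (Nat.succ_pos _) h
      omega
  rw [← hπf, hfC]
  simp [π]

/-- A group of height one all whose invariant derivations are nilpotent is unipotent. -/
theorem isUnipotent_of_nilpotent_deriv (hh : ∀ x ∈ Cartier0.aug k A, x ^ p = 0)
    (hL : ∀ y ∈ derivForms k A, IsNilpotent y) : HopfRep.IsUnipotent k A := by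
  intro V _ _ cV _ _
  let T : CartDual.D k A →ₗ[k] Module.End k V :=
    { toFun := fun y => actF y.ofConv
      map_add' := fun y z => actF_add _ _
      map_smul' := fun r y => actF_smul _ _ }
  have hmul : ∀ y z, T (y * z) = T y * T z := fun y z => LinearMap.ext fun v => actF_convMul y z v
  let g : LieSubalgebra k (Module.End k V) :=
    { (derivForms k A).map T with
      lie_mem' := by
        rintro _ _ ⟨y, hy, rfl⟩ ⟨z, hz, rfl⟩
        exact ⟨_, commutator_mem hy hz, by rw [map_sub, hmul, hmul, Ring.lie_def]⟩ }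
  have hpow : ∀ (y : CartDual.D k A) (n : ℕ), T (y ^ (n + 1)) = T y ^ (n + 1) := by
    intro y n
    induction n with
    | zero => simp
    | succ n ih => rw [pow_succ y (n + 1), hmul, ih, ← pow_succ]
  haveI : LieModule.IsNilpotent g V := (LieModule.isNilpotent_iff_forall' (R := k)).mpr fun ⟨t, ht⟩ => by
    obtain ⟨y, hy, rfl⟩ := ht
    obtain ⟨n, hn⟩ := hL y hy
    refine ⟨n + 1, ?_⟩
    have : LieModule.toEnd k g V ⟨T y, ⟨y, hy, rfl⟩⟩ = T y := LinearMap.ext fun v => rfl
    rw [this, ← hpow, pow_succ, hn, zero_mul, map_zero]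
  haveI := LieModule.nontrivial_max_triv_of_isNilpotent k g V
  obtain ⟨⟨v, hv⟩, hv0⟩ := exists_ne (0 : LieModule.maxTrivSubmodule k g V)
  refine (Submodule.ne_bot_iff _).mpr ⟨v, ?_, fun e => hv0 (Subtype.ext e)⟩
  have hv' : ∀ y : Cartier0.Tan k A, actF y.1 v = 0 := fun y =>
    (LieModule.mem_maxTrivSubmodule k g V v).mp hv ⟨T (toConv y.1), ⟨toConv y.1, y.2, rfl⟩⟩
  have hcoef : ∀ f : V →ₗ[k] k, coefFun (C := A) f v = algebraMap k A (f v) := by
    intro f
    refine (const_of_lieOp_eq_zero p hh fun L => ?_).trans (by rw [counit_coefFun])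
    show actF L.1 (coefFun (C := A) f v) = 0
    rw [← (isComodHom_iff_actF.mp (isComodHom_coefFun f)) L.1 v, hv', map_zero]
  show HopfRep.Comod.coact (k := k) (A := A) v = v ⊗ₜ[k] 1
  let b := Module.Free.chooseBasis k V
  apply (TensorProduct.equivFinsuppOfBasisLeft b).injective
  ext i
  rw [TensorProduct.equivFinsuppOfBasisLeft_apply, TensorProduct.equivFinsuppOfBasisLeft_apply]
  show coefFun (C := A) (b.coord i) v = _
  rw [hcoef]
  simp [Algebra.algebraMap_eq_smul_one]

omit [Algebra.FiniteType k A] in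
/-- In a finite commutative algebra in characteristic `p`, a non-nilpotent element has a nonzero Frobenius fixed
vector in the span of its iterated `p`-th powers. -/
theorem exists_frobenius_fixed [IsAlgClosed k] {C : Type*} [CommRing C] [Algebra k C] [FiniteDimensional k C]
    {y : C} (hny : ¬ IsNilpotent y) :
    ∃ v ∈ Submodule.span k (Set.range fun i => y ^ p ^ i), v ≠ 0 ∧ v ^ p = v := by
  classical
  have hp : p.Prime := Fact.out
  haveI : Nontrivial C := ⟨⟨y, 0, fun h => hny (h ▸ IsNilpotent.zero)⟩⟩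
  haveI : CharP C p := charP_of_injective_algebraMap (algebraMap k C).injective p
  obtain ⟨W, hWdef⟩ : ∃ W : ℕ → Submodule k C, W = fun s => Submodule.span k (Set.range fun i => y ^ p ^ (s + i)) :=
    ⟨_, rfl⟩
  have hanti : Antitone W := antitone_nat_of_succ_le fun s => by
    subst hWdef
    refine Submodule.span_mono ?_
    rintro _ ⟨i, rfl⟩
    exact ⟨i + 1, congrArg (fun n => y ^ p ^ n) (by omega)⟩
  obtain ⟨s, hs⟩ := WellFoundedGT.monotone_chain_condition (α := (Submodule k C)ᵒᵈ) ⟨W, hanti⟩
  have himg : ∀ a ∈ W s, a ^ p ∈ W (s + 1) := by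
    intro a ha
    subst hWdef
    induction ha using Submodule.span_induction with
    | mem a ha =>
      obtain ⟨i, rfl⟩ := ha
      refine Submodule.subset_span ⟨i, ?_⟩
      show y ^ p ^ (s + 1 + i) = (y ^ p ^ (s + i)) ^ p
      rw [← pow_mul, ← pow_succ]
      congr 2
      omega
    | zero => rw [zero_pow hp.ne_zero]; exact zero_mem _
    | add a b _ _ ha hb => rw [add_pow_char]; exact add_mem ha hb
    | smul r a _ ha => rw [_root_.smul_pow]; exact Submodule.smul_mem _ _ ha
  have hW1 : W (s + 1) = W s := (hs (s + 1) (by omega)).symm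
  let φ : W s →+ W s :=
    { toFun := fun a => ⟨(a : C) ^ p, hW1.le (himg a.1 a.2)⟩
      map_zero' := Subtype.ext (zero_pow hp.ne_zero)
      map_add' := fun a b => Subtype.ext (add_pow_char (a : C) b p) }
  have hφsmul : ∀ (r : k) (a : W s), φ (r • a) = r ^ p • φ a := fun r a =>
    Subtype.ext (_root_.smul_pow r (a : C) p)
  let b := Module.finBasis k (W s)
  have hspan : Submodule.span k (Set.range fun i => φ (b i)) = ⊤ := by
    apply Submodule.map_injective_of_injective (W s).injective_subtype
    rw [Submodule.map_top, Submodule.range_subtype]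
    refine le_antisymm (Submodule.map_subtype_le _ _) ?_
    conv_lhs => rw [← hW1, hWdef]
    refine Submodule.span_le.mpr ?_
    rintro _ ⟨i, rfl⟩
    have hmem : y ^ p ^ (s + i) ∈ W s := hWdef ▸ Submodule.subset_span ⟨i, rfl⟩
    refine ⟨φ ⟨_, hmem⟩, ?_, ?_⟩
    · rw [← b.sum_repr ⟨_, hmem⟩, map_sum]
      refine Submodule.sum_mem _ fun j _ => ?_
      rw [hφsmul]
      exact Submodule.smul_mem _ _ (Submodule.subset_span ⟨j, rfl⟩)
    · show (y ^ p ^ (s + i)) ^ p = y ^ p ^ (s + 1 + i)
      rw [← pow_mul, ← pow_succ]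
      congr 2
      omega
  have hli : LinearIndependent k (fun i => φ (b i)) :=
    linearIndependent_of_top_le_span_of_card_eq_finrank hspan.ge (by simp)
  have hinj : ∀ a : W s, φ a = 0 → a = 0 := by
    intro a ha
    rw [← b.sum_repr a, map_sum] at ha
    simp only [hφsmul] at ha
    have := Fintype.linearIndependent_iff.mp hli _ ha
    rw [← b.sum_repr a]
    exact Finset.sum_eq_zero fun i _ => by rw [(pow_eq_zero_iff hp.ne_zero).mp (this i), zero_smul]
  haveI : Nontrivial (W s) := Submodule.nontrivial_iff_ne_bot.mpr fun h => hny ⟨p ^ s, by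
    have : y ^ p ^ s ∈ W s := hWdef ▸ Submodule.subset_span ⟨0, by simp⟩
    rwa [h, Submodule.mem_bot] at this⟩
  obtain ⟨v, hv0, hv⟩ := SGA7IILib.exists_fixed_ne_zero (CharP.cast_eq_zero k p) hp.two_le hφsmul hinj
  refine ⟨v.1, ?_, fun h => hv0 (Subtype.ext h), congrArg Subtype.val hv⟩
  refine (hWdef ▸ Submodule.span_mono ?_ : W s ≤ _) v.2
  rintro _ ⟨i, rfl⟩
  exact ⟨s + i, rfl⟩

/-- A non-nilpotent invariant derivation gives a subgroup `μ_p`. -/
theorem exists_mu_of_deriv [IsAlgClosed k] {y : CartDual.D k A} (hy : y ∈ derivForms k A)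
    [Module.Finite k A] (hny : ¬ IsNilpotent y) :
    ∃ φ : A →ₐc[k] MonoidAlgebra k (Multiplicative (ZMod p)), Function.Surjective φ := by
  classical
  haveI : FiniteDimensional k (CartDual.D k A) := (CartDual.toDual k A).symm.finiteDimensional
  let C : Subalgebra k (CartDual.D k A) := Algebra.adjoin k ({y} : Set (CartDual.D k A))
  have hyC : y ∈ C := Algebra.subset_adjoin (Set.mem_singleton y)
  let : CommRing C := Algebra.adjoinCommRingOfComm k (by simp)
  haveI : FiniteDimensional k C := FiniteDimensional.finiteDimensional_submodule (Subalgebra.toSubmodule C)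
  obtain ⟨v, hv, hv0, hvp⟩ := exists_frobenius_fixed (k := k) p (y := (⟨y, hyC⟩ : C))
    (fun ⟨n, hn⟩ => hny ⟨n, by simpa using congrArg Subtype.val hn⟩)
  have hpd : ∀ n, y ^ p ^ n ∈ derivForms k A := fun n => by
    induction n with
    | zero => simpa using hy
    | succ n ih => rw [pow_succ, pow_mul]; exact deriv_pow_char p ih
  have hvd : (v : CartDual.D k A) ∈ derivForms k A := by
    refine (Submodule.span_le (p := (derivForms k A).comap C.val.toLinearMap)).mpr ?_ hv
    rintro _ ⟨i, rfl⟩
    simpa using hpd i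
  have hvp' : (v : CartDual.D k A) ^ p = (1 : k) • (v : CartDual.D k A) := by
    rw [one_smul]; simpa using congrArg Subtype.val hvp
  obtain ⟨x₀, hx₀⟩ : ∃ x₀, (v : CartDual.D k A).ofConv x₀ ≠ 0 := by
    by_contra hcon
    push Not at hcon
    exact hv0 (Subtype.ext (WithConv.ofConv_injective (LinearMap.ext hcon)))
  let x₁ : A := ((v : CartDual.D k A).ofConv x₀)⁻¹ • (x₀ - Coalgebra.counit (R := k) x₀ • (1 : A))
  have hx₁ : (v : CartDual.D k A).ofConv x₁ = 1 := by simp [x₁, deriv_apply_one hvd, inv_mul_cancel₀ hx₀]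
  have hx₁0 : Coalgebra.counit (R := k) x₁ = 0 := by simp [x₁]
  obtain ⟨w, t, hw, ht0, ht1, hwp⟩ := exists_deriv_muP (k := k) p
  refine exists_bialgHom_of_deriv p _ ?_ 1 hw ht0 ht1 hwp hvd hx₁0 hx₁ hvp'
  rw [Module.finrank_eq_card_basis (MonoidAlgebra.basis (Multiplicative (ZMod p)) k)]
  simp

end Groth.Agent.UnipMu
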